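import Cfsg.Agent.Lib.CosetEnum.Defs

/-! Generated table data. -/

set_option autoImplicit false
set_option maxRecDepth 20000

namespace Cfsg.Lib.CosetEnum.Fi22Sub_b

/-- Table data. -/
def tabC_0_0 : Tab :=
  (.leaf 0x1)

/-- Table data. -/
def tabC_0 : Tab :=
  tabC_0_0

end Cfsg.Lib.CosetEnum.Fi22Sub_b
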